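import Cfsg.Agent.H935.RuM.Mon
import Cfsg.Agent.BabyComp.BaseTwo
import Cfsg.Agent.BM.KHAll
import Cfsg.Agent.H7.NBpCount
import Cfsg.Agent.LThreeMB.Quo
import Cfsg.Agent.H107.NB.OrthTor_m3
import Cfsg.Agent.LThreeMB.CoOneFin
import Cfsg.Agent.LThreeMB.KPair
import Cfsg.Agent.LThreeMB.CTwelveFix
import Cfsg.Agent.MFive.Row
import Cfsg.Agent.MFiveHN.Closed
import Cfsg.Agent.H237.EvenFi
import Cfsg.Agent.MonsterN.LitFin
import Cfsg.Agent.OddHalf.D4.Spor.FiTF_m3
import Cfsg.Agent.LThreeB.FromM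
import Cfsg.Agent.FastGrp
import Cfsg.Agent.Prune
set_option linter.all false

section
prune_inst 0x7f00000000000000000000000000000000000000000000000000000000000000000000000000000000000000000000000000000000000000000000000000000000000000000000000000000000000000003fffffffffffffffffffffffffffbeffbdffffffff

-- part: H493/NB/Mon
section
set_option linter.all false
open scoped Cfsg.Agent.FastGrp

-- part: H493/NB/Six
section
/-!
# Nonprincipal `p`-blocks of `B` (`p ≥ 5`) and of `M` (`p ≥ 7`) (helper493)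

The classes of `{3,4}`-transpositions and of `6`-transpositions.
-/

set_option autoImplicit false

namespace Cfsg.Agent.H493.NB

open Cfsg Cfsg.Agent Cfsg.Agent.H7.NBp
open Cfsg.Agent.MonsterX Cfsg.Agent.MonsterX.InstData Cfsg.Agent.MonsterX.MainPack Cfsg.Agent.MonsterX.MainSimple
open Cfsg.Agent.MonsterX.MainBasic Cfsg.Agent.MonsterN

end Cfsg.Agent.H493.NB
end

-- part: H493/NB/CoverAbs
section
/-!
# `NB p` of `C(t)/⟨t⟩` from the centralizer of a commuting `p`-element (helper493)
-/

set_option autoImplicit false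

namespace Cfsg.Agent.H493.NB

open Cfsg Cfsg.Agent Cfsg.Agent.H7.NBp Cfsg.Agent.LThreeMB
open Subgroup (centralizer mem_centralizer_singleton_iff)

variable {G : Type*} [Group G]

end Cfsg.Agent.H493.NB
end

-- part: H493/NB/Mon
section
/-!
# Nonprincipal `3`- and `5`-blocks of `M`, nonprincipal `3`-blocks of `B` (helper493)
-/

set_option autoImplicit false
set_option maxRecDepth 100000

namespace Cfsg.Agent.H493.NB

open Cfsg Cfsg.Agent Cfsg.Agent.H7.NBp
open Cfsg.Agent.MonsterX Cfsg.Agent.MonsterX.InstData Cfsg.Agent.MonsterX.MainPack Cfsg.Agent.MonsterX.MainSimple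
open Cfsg.Agent.MonsterX.MainBasic Cfsg.Agent.MonsterN Cfsg.Agent.LThree Cfsg.Agent.LThreeMB
open Cfsg.Agent.MonsterU.Ch
open Cfsg.Agent.MonsterU.Lam2 (L2 IsType)
open Cfsg.Spor (Co1)
open Subgroup (centralizer mem_centralizer_singleton_iff)

/-- an element of order 3 of the model with `C(x)/⟨x⟩ ≅ Fi24'` -/
theorem exists_fi : ∃ x : ↥InstData.M.G, orderOf x = 3 ∧ Spor.IsoFi24' (XX x) := by
  have := MFive.Row.finite_model
  have := MFive.Row.simple_model
  have I : CoOne := CoOneFin.coOne
  have h := KChart.chart KDone.lft MFive.Row.hc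
  obtain ⟨s, hs, hfs, ht, h4⟩ := I.psu
  obtain ⟨x, hx, rfl⟩ := KPair.exists_order_three h hs
  exact ⟨x, by rw [Subgroup.orderOf_coe]; exact hx, iso_fi24 h hx hfs (by rw [hfs]; exact I.twelve) ht h4⟩

end Cfsg.Agent.H493.NB
end

private theorem dce_c8494674e0c6 : _root_.True := by
  try have : _root_.True := by simp only [_root_.Cfsg.Spor.BabyMonster.edges.eq_1]
  exact _root_.True.intro
end

-- part: H493/NB/BabyThree
section
set_option linter.all false
open scoped Cfsg.Agent.FastGrp

/-!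
# Nonprincipal `3`-blocks of `B` (helper493)

`x` of order 3 in the Monster with `C(x)/⟨x⟩ ≅ Fi24'`, `τ = a b` a product of two commuting transpositions, `t` the
involution of `C(x)` over `τ`: `t` is of class 2A (`3 ^ 10` divides `|C(t)|`), `B ≅ C(t)/⟨t⟩`, the centralizer of the
image of `x` in `B` has a normal subgroup with central quotient `Fi22`.
-/

set_option autoImplicit false
set_option maxRecDepth 100000

namespace Cfsg.Agent.H493.NB

open Cfsg Cfsg.Agent Cfsg.Agent.H7.NBp
open Cfsg.Agent.MonsterX Cfsg.Agent.MonsterX.InstData Cfsg.Agent.MonsterX.MainPack Cfsg.Agent.MonsterX.MainSimple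
open Cfsg.Agent.MonsterX.MainBasic Cfsg.Agent.MonsterN Cfsg.Agent.LThree Cfsg.Agent.LThreeMB
open Cfsg.Agent.MonsterU.Ch Cfsg.Agent.MonsterP
open Cfsg.Spor (Co1 Fi24)
open Cfsg.Agent.R08 Cfsg.Agent.R08.FiTwentyFour
open Cfsg.Agent.CTwoTab.FiTF (N eN)
open scoped commutatorElement
open Subgroup (centralizer mem_centralizer_singleton_iff)

/-- the involution over an involution of `C(x)/⟨x⟩` -/
theorem exists_lift {G : Type*} [Group G] {x : G} (hx : orderOf x = 3) {u : XX x} (huu : u * u = 1) :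
    ∃ (t : G) (ht : t * x = x * t), t * t = 1 ∧ mk x ht = u := by
  obtain ⟨g, hg, rfl⟩ := exists_mk u
  have h1 : (g * g) * x = x * (g * g) := by rw [mul_assoc, hg, ← mul_assoc, hg, mul_assoc]
  have h2 : mk x h1 = 1 := huu
  obtain ⟨j, hj⟩ := (mk_eq_one h1).1 h2
  have h3 : (g * (g * g)) * x = x * (g * (g * g)) := by rw [mul_assoc, h1, ← mul_assoc, hg, mul_assoc]
  refine ⟨g * (g * g), h3, ?_, ?_⟩
  · have h4 : g * (g * g) * (g * (g * g)) = (g * g) ^ 3 := by
      simp only [pow_succ, pow_zero, one_mul, mul_assoc]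
    rw [h4, ← hj, ← zpow_natCast, ← zpow_mul, mul_comm, zpow_mul, zpow_natCast, ← hx, pow_orderOf_eq_one, one_zpow]
  · have h4 : mk x h3 = mk x hg * mk x h1 := rfl
    rw [h4, h2, mul_one]

/-- the order of the centralizer of `z` -/
theorem not_dvd_z : ¬ 3 ^ 10 ∣ Nat.card ↥(centralizer ({KDone.K.z} : Set ↥InstData.M.G)) := by
  have hz : KDone.K.z = zG LitFin.all.hG := Subtype.ext KDone.lnk.z_eq.symm
  rw [hz]
  intro h
  have hfin := MFive.Row.finite_model
  have hmem := fun g : ↥InstData.M.G =>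
    mem_cent_iff LitFin.all.hG LitFin.all.hR LitFin.all.hL LitFin.all.hO LitFin.all.hT g
  let ι : ↥(centralizer ({zG LitFin.all.hG} : Set ↥InstData.M.G)) →* ↥InstData.M.C :=
    { toFun := fun g => ⟨(g : ↥InstData.M.G), (hmem _).1 g.2⟩
      map_one' := rfl
      map_mul' := fun _ _ => rfl }
  have hι : Function.Injective ι := by
    intro a b hab
    have h1 := congrArg Subtype.val hab
    exact Subtype.ext (Subtype.ext h1)
  have h1 : Nat.card ↥(centralizer ({zG LitFin.all.hG} : Set ↥InstData.M.G)) ∣ Nat.card ↥InstData.M.C :=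
    Subgroup.card_dvd_of_injective ι hι
  rw [card_C LitFin.all.hG] at h1
  have h2 := h.trans h1
  norm_num at h2

/-- commuting modulo `⟨x⟩` with an involution is commuting -/
theorem comm_of_mk {G : Type*} [Group G] {p : ℕ} (hp2 : Odd p) {x g t : G} (hx : orderOf x = p)
    (hg : g * x = x * g) (hxt : t * x = x * t) (htt : t * t = 1) (h : mk x hg * mk x hxt = mk x hxt * mk x hg) :
    g * t = t * g := by
  have hxp : x ^ p = 1 := by rw [← hx, pow_orderOf_eq_one]
  have h3 : (g * t) * x = x * (g * t) := by rw [mul_assoc, hxt, ← mul_assoc, hg, mul_assoc]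
  have h4 : (t * g) * x = x * (t * g) := by rw [mul_assoc, hg, ← mul_assoc, hxt, mul_assoc]
  have h5 : mk x h4 = mk x h3 := h.symm
  obtain ⟨j, hj⟩ := (mk_eq_mk h4 h3).1 h5
  have c1 : Commute t x := hxt
  have c2 : Commute g x := hg
  have h6 : g * t * g⁻¹ = t * x ^ j := by
    rw [← hj]
    have h7 : g * x ^ j = x ^ j * g := (c2.zpow_right j)
    calc t * g * x ^ j * g⁻¹ = t * (g * x ^ j) * g⁻¹ := by group
      _ = t * x ^ j := by rw [h7]; group
  have h7 : (t * x ^ j) * (t * x ^ j) = 1 := by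
    rw [← h6]
    calc g * t * g⁻¹ * (g * t * g⁻¹) = g * (t * t) * g⁻¹ := by group
      _ = 1 := by rw [htt]; group
  have h8 : x ^ j * x ^ j = 1 := by
    have h9 : x ^ j * t = t * x ^ j := (c1.zpow_right j).symm
    calc x ^ j * x ^ j = (t * t) * (x ^ j * x ^ j) := by rw [htt, one_mul]
      _ = t * (t * x ^ j) * x ^ j := by group
      _ = t * (x ^ j * t) * x ^ j := by rw [h9]
      _ = (t * x ^ j) * (t * x ^ j) := by group
      _ = 1 := h7
  have h9 : (x ^ j) ^ p = 1 := by rw [← zpow_natCast, ← zpow_mul, mul_comm, zpow_mul, zpow_natCast, hxp, one_zpow]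
  have h10 : x ^ j = 1 := by
    obtain ⟨m, hm⟩ := hp2
    rw [hm, pow_succ, pow_mul, pow_two, h8, one_pow, one_mul] at h9
    exact h9
  rw [h10, mul_one, mul_inv_eq_iff_eq_mul] at h6
  exact h6

theorem pow_dvd {x : ↥InstData.M.G} (hx : orderOf x = 3) (e : XX x ≃* Spor.Fi24') {a b : Fi24} (P : TetFi24A.At a b)
    {τ : Spor.Fi24'} (hτ : (τ : Fi24) = a * b) {t : ↥InstData.M.G} (ht : t * x = x * t) (htt : t * t = 1)
    (heu : e (mk x ht) = τ) : 3 ^ 10 ∣ Nat.card ↥(centralizer ({t} : Set ↥InstData.M.G)) := by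
  have hfin := MFive.Row.finite_model
  let φ : ↥(centralizer ({x} : Set ↥InstData.M.G)) →* Spor.Fi24' := e.toMonoidHom.comp (QuotientGroup.mk' (Zx x))
  have hφs : Function.Surjective φ := e.surjective.comp (QuotientGroup.mk'_surjective _)
  have h1 := Subgroup.index_comap_of_surjective (N a b) hφs
  have h2 : Nat.card ↥(centralizer ({x} : Set ↥InstData.M.G)) = 3 * Nat.card Spor.Fi24' := by
    rw [Subgroup.card_eq_card_quotient_mul_card_subgroup (Zx x), mul_comm]
    congr 1
    · show Nat.card ↥(Subgroup.zpowers (self x)) = 3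
      rw [Nat.card_zpowers, ← Subgroup.orderOf_coe]
      exact hx
    · exact Nat.card_congr e.toEquiv
  have h3 := ((N a b).comap φ).card_mul_index
  have h4 := (N a b).card_mul_index
  rw [h1, h2, ← h4, ← mul_assoc] at h3
  have h5 : Nat.card ↥((N a b).comap φ) = 3 * Nat.card ↥(N a b) := by
    have : Finite Spor.Fi24' := Finite.of_surjective φ hφs
    exact Nat.eq_of_mul_eq_mul_right (Nat.pos_of_ne_zero Subgroup.index_ne_zero_of_finite) h3
  have h6 : Nat.card ↥(N a b) = 2 * 64561751654400 := by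
    rw [Nat.card_congr (eN a b).toEquiv, OddHalf.D4.Spor.FiTF.card_Cab P]
  have h7 : ((N a b).comap φ).map (centralizer ({x} : Set ↥InstData.M.G)).subtype ≤
      centralizer ({t} : Set ↥InstData.M.G) := by
    rintro _ ⟨g, hg, rfl⟩
    rw [mem_centralizer_singleton_iff]
    have hgx : (g : ↥InstData.M.G) * x = x * (g : ↥InstData.M.G) := mem_centralizer_singleton_iff.1 g.2
    have h8 : e (mk x hgx) ∈ centralizer ({τ} : Set Spor.Fi24') := CTwoTab.FiTF.N_le hτ hg
    rw [← heu, mem_centralizer_singleton_iff, ← map_mul, ← map_mul] at h8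
    exact comm_of_mk (by decide) hx hgx ht htt (e.injective h8)
  have h8 := Subgroup.card_dvd_of_le h7
  rw [Subgroup.card_map_of_injective (Subgroup.subtype_injective _), h5, h6] at h8
  exact (by norm_num : (3 : ℕ) ^ 10 ∣ 3 * (2 * 64561751654400)).trans h8

end Cfsg.Agent.H493.NB
end
end
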